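import Groth.Agent.L16.HomSh.FreeFrames
import Groth.Agent.L03.VBPn.FreeHom
import Groth.Agent.L18.FreeFiniteSet
import Groth.Agent.L12.FinCov.Basis

/-!
# The sheaf of endomorphisms of a sum of copies of an invertible module
-/

set_option autoImplicit false
set_option linter.style.haveILetI false
set_option backward.isDefEq.respectTransparency false
set_option backward.isDefEq.respectTransparency.types false

universe u

open CategoryTheory CategoryTheory.Limits AlgebraicGeometry TopologicalSpace Opposite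
open Groth.L18.Frame (rs ro rs_rs ro_ro rs_smul rs_self ro_self)
open Groth.L19.ProjBdl (IsBasisOn lc coord lc_coord coord_eq app_lc app_rs)
open Groth.L16.HomSh (homMod secEquiv ev globalEquiv sec_ext_basis unitBasis isBasisOn_homMod ev_unitFam secEquiv_rs)

noncomputable section

namespace Groth.L03.VBPn.Isotyp

variable {X : Scheme.{u}}

theorem isBasisOn_map_iso {M N : X.Modules} (e : M ≅ N) {W : X.Opens} {n : ℕ} {b : Fin n → Γ(M, W)}
    (hb : IsBasisOn M W b) : IsBasisOn N W fun i => e.hom.app W (b i) := by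
  intro V h
  have h1 : lc N (fun i => e.hom.app W (b i)) h = (fun s => e.hom.app V s) ∘ lc M b h :=
    funext fun c => (app_lc e.hom b h c).symm
  rw [h1]
  refine Function.Bijective.comp ?_ (hb V h)
  refine ⟨fun s t hst => ?_, fun s => ⟨e.inv.app V s, ?_⟩⟩
  · have := congrArg (e.inv.app V) hst
    simpa [← ConcreteCategory.comp_apply, ← Scheme.Modules.Hom.comp_app] using this
  · show (e.inv ≫ e.hom).app V s = s
    rw [e.inv_hom_id]
    rfl

/-- The inclusions applied to a frame give a frame of the sum. -/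
theorem isBasisOn_sigma {r : ℕ} {L M : X.Modules} (ι : Fin r → (L ⟶ M)) (π : Fin r → (M ⟶ L))
    (hιπ : ∀ i j, ι i ≫ π j = if i = j then 𝟙 L else 0) (htot : ∑ i, π i ≫ ι i = 𝟙 M) {W : X.Opens}
    {l : Fin 1 → Γ(L, W)} (hl : IsBasisOn L W l) : IsBasisOn M W fun i => (ι i).app W (l 0) := by
  classical
  intro V h
  have hlc : ∀ c : Fin r → Γ(X, V), lc M (fun i => (ι i).app W (l 0)) h c =
      ∑ i, (ι i).app V (lc L l h fun _ => c i) := fun c => Finset.sum_congr rfl fun i _ => by
    rw [app_lc]
    simp [lc]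
  have hπ : ∀ (c : Fin r → Γ(X, V)) j, (π j).app V (lc M (fun i => (ι i).app W (l 0)) h c) = lc L l h fun _ => c j := by
    intro c j
    rw [hlc, map_sum, Finset.sum_eq_single j]
    · show (ι j ≫ π j).app V _ = _
      rw [hιπ, if_pos rfl]
      rfl
    · intro i _ hij
      show (ι i ≫ π j).app V _ = _
      rw [hιπ, if_neg hij]
      rfl
    · exact fun hh => absurd (Finset.mem_univ j) hh
  refine ⟨fun c c' e => funext fun j => ?_, fun s => ?_⟩
  · have e' := congrArg ((π j).app V) e
    rw [hπ, hπ] at e'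
    exact congrFun ((hl V h).1 e') 0
  · refine ⟨fun j => coord hl h ((π j).app V s) 0, ?_⟩
    rw [hlc]
    have : ∀ j, (lc L l h fun _ : Fin 1 => coord hl h ((π j).app V s) 0) = (π j).app V s := fun j => by
      conv_rhs => rw [← lc_coord hl h ((π j).app V s)]
      refine congrArg (lc L l h) (funext fun i => ?_)
      rw [Subsingleton.elim i 0]
    simp only [this]
    have h2 := congrArg (fun f : M ⟶ M => f.app V s) htot
    simp only [Groth.L12.FinCov.app_sum] at h2
    exact h2

/-- The endomorphisms of a sum of copies of an invertible module form a free module. -/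
theorem nonempty_end_free {r : ℕ} {L M : X.Modules} (hL : FlatMod.IsFinLocFreeOfRank 1 L)
    (e : M ≅ ∐ fun _ : Fin r => L) : Nonempty (homMod M M ≅ FlatMod.freeMod X (r * r)) := by
  classical
  let ι : Fin r → (L ⟶ M) := fun i => Sigma.ι (fun _ : Fin r => L) i ≫ e.inv
  let π : Fin r → (M ⟶ L) := fun j => e.hom ≫ Sigma.desc fun i => if i = j then 𝟙 L else 0
  have hιπ : ∀ i j, ι i ≫ π j = if i = j then 𝟙 L else 0 := fun i j => by simp [ι, π]
  have htot : ∑ i, π i ≫ ι i = 𝟙 M := by
    rw [← cancel_epi e.inv]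
    refine Sigma.hom_ext _ _ fun a => ?_
    simp only [Category.comp_id, Preadditive.comp_sum]
    rw [Finset.sum_eq_single a]
    · simp [ι, π]
    · intro i _ hia
      simp [ι, π, Ne.symm hia]
    · exact fun hh => absurd (Finset.mem_univ a) hh
  let T : Fin (r * r) → Γ(homMod M M, ⊤) := fun a =>
    globalEquiv M M (π (finProdFinEquiv.symm a).1 ≫ ι (finProdFinEquiv.symm a).2)
  suffices hT : IsBasisOn (homMod M M) ⊤ T from
    ⟨(@asIso _ _ _ _ _ (Groth.L03.VBPn.isIso_freeHom hT)).symm⟩
  have hB : ∀ x : X, ∃ (W : X.Opens) (l : Fin 1 → Γ(L, W)), x ∈ W ∧ IsBasisOn L W l := fun x => by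
    obtain ⟨W, l, -, hxW, -, hl⟩ := Groth.L12.FinCov.exists_basisOn_of_rank hL x ⊤ trivial
    exact ⟨W, l, hxW, hl⟩
  choose W l hW hl using hB
  refine Groth.L18.FreeFin.isBasisOn_of_cover W (fun x => le_top)
    (fun x _ => Opens.mem_iSup.2 ⟨x, hW x⟩) fun x => ?_
  let b : Fin r → Γ(M, W x) := fun i => (ι i).app (W x) (l x 0)
  have hb : IsBasisOn M (W x) b := isBasisOn_sigma ι π hιπ htot (hl x)
  have he : (fun a => rs (homMod M M) (le_top : W x ≤ ⊤) (T a)) = unitBasis hb b := by
    funext a
    refine (secEquiv (W x)).injective (sec_ext_basis hb le_rfl fun k => ?_)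
    rw [secEquiv_rs, unitBasis, LinearEquiv.apply_symm_apply, ev_unitFam hb _ _ le_rfl k, rs_self, rs_self]
    show (π (finProdFinEquiv.symm a).1 ≫ ι (finProdFinEquiv.symm a).2).app (W x) ((ι k).app (W x) (l x 0)) = _
    show ((ι k ≫ π (finProdFinEquiv.symm a).1) ≫ ι (finProdFinEquiv.symm a).2).app (W x) (l x 0) = _
    rw [hιπ]
    by_cases hk : k = (finProdFinEquiv.symm a).1
    · rw [if_pos hk, hk, Pi.single_eq_same]
      rfl
    · rw [if_neg hk, Pi.single_eq_of_ne hk]
      simp
  rw [he]
  exact isBasisOn_homMod hb hb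

end Groth.L03.VBPn.Isotyp
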