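import Groth.Agent.L03.VBPn.Isotyp.HomFree
import Groth.Agent.L24.KrullSchmidt.Isotypical
import Groth.Agent.L12.KDetLine
import Groth.Agent.L03.ShStab.ExtTwistPn
import Mathlib.AlgebraicGeometry.AlgClosed.Basic
import Mathlib.AlgebraicGeometry.Morphisms.Proper
import Mathlib.Data.Matrix.Basis

/-!
# Bundles with free sheaf of endomorphisms

On a proper integral scheme over an algebraically closed field such a bundle is a sum of copies of one line bundle.
-/

set_option autoImplicit false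
set_option linter.style.haveILetI false
set_option backward.isDefEq.respectTransparency false
set_option backward.isDefEq.respectTransparency.types false

universe u

open CategoryTheory CategoryTheory.Limits AlgebraicGeometry TopologicalSpace Opposite
open Groth.L18.Frame (rs ro rs_rs ro_ro rs_smul rs_self ro_self)
open Groth.L19.ProjBdl (IsBasisOn lc coord lc_coord coord_eq app_lc app_rs)
open Groth.L16.HomSh (homMod Sec secEquiv ev ev_smulSec ev_rs globalEquiv unitBasis isBasisOn_homMod ev_lc_unitBasis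
  secEquiv_rs ev_lc)

noncomputable section

namespace Groth.L03.VBPn.Isotyp

variable {k : Type u} [Field k] [IsAlgClosed k] {X : Scheme.{u}}

/-- Global functions are constant. -/
theorem surjective_toGlobal [IsIntegral X] (f : X ⟶ Spec (CommRingCat.of k)) [IsProper f] :
    Function.Surjective (Coh.toGlobal f) := by
  let g : k →+* Γ(X, ⊤) := f.appTop.hom.comp (Scheme.ΓSpecIso (CommRingCat.of k)).inv.hom
  have hg : g.Finite := (finite_appTop_of_universallyClosed k f).comp
    (RingHom.Finite.of_surjective _ (Scheme.ΓSpecIso (CommRingCat.of k)).commRingCatIsoToRingEquiv.symm.surjective)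
  letI : Algebra k Γ(X, ⊤) := g.toAlgebra
  haveI : Module.Finite k Γ(X, ⊤) := hg
  haveI : Algebra.IsIntegral k Γ(X, ⊤) := Algebra.IsIntegral.of_finite k _
  exact (IsAlgClosed.algebraMap_bijective_of_isIntegral (k := k) (K := Γ(X, ⊤))).2

/-- Evaluation at a rational point of an open set. -/
theorem exists_character [IsIntegral X] (f : X ⟶ Spec (CommRingCat.of k)) [LocallyOfFiniteType f] {r : ℕ} {E : X.Modules}
    (hE : FlatMod.IsFinLocFreeOfRank r E) :
    ∃ (U : X.Opens) (b : Fin r → Γ(E, U)) (χ : Γ(X, U) →+* k),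
      IsBasisOn E U b ∧ ∀ c, χ (ro (le_top : U ≤ ⊤) (Coh.toGlobal f c)) = c := by
  haveI : JacobsonSpace X := LocallyOfFiniteType.jacobsonSpace f
  obtain ⟨x, -, hx⟩ := nonempty_inter_closedPoints (X := X) Set.univ_nonempty isOpen_univ.isLocallyClosed
  obtain ⟨U, b, -, hxU, -, hb⟩ := Groth.L12.FinCov.exists_basisOn_of_rank hE x ⊤ trivial
  let p := pointOfClosedPoint f x hx
  have hp : ⊤ ≤ p ⁻¹ᵁ U := fun a _ => by
    show p a ∈ U
    rw [pointOfClosedPoint_apply f x hx a]
    exact hxU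
  refine ⟨U, b, ((p.appLE U ⊤ hp) ≫ (Scheme.ΓSpecIso (CommRingCat.of k)).hom).hom, hb, fun c => ?_⟩
  show ((Scheme.ΓSpecIso (CommRingCat.of k)).inv ≫ f.appTop ≫ X.presheaf.map (homOfLE (le_top : U ≤ ⊤)).op ≫
    p.appLE U ⊤ hp ≫ (Scheme.ΓSpecIso (CommRingCat.of k)).hom) c = c
  have h : f.appTop ≫ X.presheaf.map (homOfLE (le_top : U ≤ ⊤)).op ≫ p.appLE U ⊤ hp = 𝟙 _ := by
    rw [Scheme.Hom.map_appLE]
    show f.appTop ≫ p.appTop ≫ (Spec (CommRingCat.of k)).presheaf.map _ = _
    rw [← Category.assoc, ← Scheme.Hom.comp_appTop, pointOfClosedPoint_comp]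
    simp
  rw [reassoc_of% h, Iso.inv_hom_id]
  rfl

/-- A complete set of matrix units splits a bundle into copies of a retract. -/
theorem exists_retract_of_matrixUnits {C : Type*} [Category C] [Abelian C] {E : C} {r : ℕ} [HasCoproductsOfShape (Fin r) C]
    (i₀ : Fin r) (e : Fin r → Fin r → (E ⟶ E))
    (hmul : ∀ i j a b, e i j ≫ e a b = if j = a then e i b else 0) (hone : ∑ i, e i i = 𝟙 E) :
    ∃ (L : C), (∃ (j : L ⟶ E) (p : E ⟶ L), j ≫ p = 𝟙 L) ∧ Nonempty (E ≅ ∐ fun _ : Fin r => L) := by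
  classical
  have he : e i₀ i₀ ≫ e i₀ i₀ = e i₀ i₀ := by rw [hmul, if_pos rfl]
  let j : kernel (𝟙 E - e i₀ i₀) ⟶ E := kernel.ι _
  let p : E ⟶ kernel (𝟙 E - e i₀ i₀) :=
    kernel.lift _ (e i₀ i₀) (by rw [Preadditive.comp_sub, Category.comp_id, he, sub_self])
  have hj : j ≫ e i₀ i₀ = j := by
    have h := kernel.condition (𝟙 E - e i₀ i₀)
    rw [Preadditive.comp_sub, Category.comp_id, sub_eq_zero] at h
    exact h.symm
  have hpj : p ≫ j = e i₀ i₀ := kernel.lift_ι _ _ _
  have hjp : j ≫ p = 𝟙 _ := by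
    apply equalizer.hom_ext
    show (j ≫ p) ≫ j = 𝟙 _ ≫ j
    rw [Category.assoc, hpj, hj, Category.id_comp]
  refine ⟨_, ⟨j, p, hjp⟩, ⟨{
    hom := ∑ i, (e i i₀ ≫ p) ≫ Sigma.ι (fun _ : Fin r => kernel (𝟙 E - e i₀ i₀)) i
    inv := Sigma.desc fun i => j ≫ e i₀ i
    hom_inv_id := ?_
    inv_hom_id := ?_ }⟩⟩
  · rw [Preadditive.sum_comp]
    refine Eq.trans (Finset.sum_congr rfl fun i _ => ?_) hone
    rw [Category.assoc, Sigma.ι_desc, Category.assoc, reassoc_of% hpj, hmul, if_pos rfl, hmul, if_pos rfl]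
  · refine Sigma.hom_ext _ _ fun a => ?_
    rw [Sigma.ι_desc_assoc, Category.comp_id, Preadditive.comp_sum, Finset.sum_eq_single a]
    · simp only [Category.assoc]
      simp only [reassoc_of% (hmul i₀ a a i₀), if_true]
      rw [reassoc_of% hj, reassoc_of% hjp]
    · intro i _ hia
      simp only [Category.assoc]
      simp only [reassoc_of% (hmul i₀ a i i₀), if_neg (Ne.symm hia), zero_comp, comp_zero]
    · exact fun hh => absurd (Finset.mem_univ a) hh

/-- Evaluation of a global homomorphism in a frame at a point. -/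
theorem exists_ringEquiv [IsIntegral X] (f : X ⟶ Spec (CommRingCat.of k)) [IsProper f] {r : ℕ} {E : X.Modules}
    (hE : FlatMod.IsFinLocFreeOfRank r E) (ψ : homMod E E ≅ FlatMod.freeMod X (r * r)) :
    ∃ M : (E ⟶ E) ≃+ Matrix (Fin r) (Fin r) k, M (𝟙 E) = 1 ∧ ∀ φ φ', M (φ ≫ φ') = M φ * M φ' := by
  classical
  obtain ⟨U, b, χ, hb, hχ⟩ := exists_character f hE
  let T : Fin (r * r) → Γ(homMod E E, ⊤) := fun a =>
    ψ.inv.app ⊤ (rs _ (le_top : (⊤ : X.Opens) ≤ ⊤) (Groth.L18.QuotBasis.uvec X (r * r) a))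
  have hT : IsBasisOn (homMod E E) ⊤ T :=
    isBasisOn_map_iso ψ.symm (Groth.L18.GrassProper.isBasisOn_uvec X (r * r) ⊤)
  let K := fun s : Γ(E, U) => fun j => χ (coord hb le_rfl s j)
  have Kadd : ∀ s t, K (s + t) = K s + K t := fun s t => funext fun j => by
    have e : coord hb le_rfl (s + t) = coord hb le_rfl s + coord hb le_rfl t := coord_eq hb _ (by
      conv_rhs => rw [← lc_coord hb le_rfl s, ← lc_coord hb le_rfl t]
      simp only [lc, Pi.add_apply, add_smul, Finset.sum_add_distrib])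
    simp [K, e]
  have Ksmul : ∀ (a : Γ(X, U)) s, K (a • s) = χ a • K s := fun a s => funext fun j => by
    have e : coord hb le_rfl (a • s) = fun i => a * coord hb le_rfl s i := coord_eq hb _ (by
      conv_rhs => rw [← lc_coord hb le_rfl s]
      simp only [lc, Finset.smul_sum, mul_smul])
    simp [K, e]
  let Ψ : Γ(homMod E E, U) →+ Matrix (Fin r) (Fin r) k :=
    AddMonoidHom.mk' (fun s => fun i => K (ev (secEquiv U s) le_rfl (b i))) fun s t => funext fun i =>
      Kadd _ _
  have Ψsmul : ∀ (a : Γ(X, U)) s, Ψ (a • s) = χ a • Ψ s := fun a s => funext fun i => by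
    show K (ev (secEquiv U (a • s)) le_rfl (b i)) = χ a • K _
    rw [map_smul, ev_smulSec, Ksmul, ro_self]
  let Λ : (Fin (r * r) → k) →ₗ[k] Matrix (Fin r) (Fin r) k :=
    { toFun := fun γ => ∑ a, γ a • Ψ (rs _ le_top (T a))
      map_add' := fun γ δ => by simp [add_smul, Finset.sum_add_distrib]
      map_smul' := fun c γ => by simp [mul_smul, Finset.smul_sum] }
  have hsurj : Function.Surjective Λ := by
    intro Q
    let S : Γ(homMod E E, U) := lc _ (unitBasis hb b) le_rfl fun a =>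
      ro (le_top : U ≤ ⊤) (Coh.toGlobal f (Q (finProdFinEquiv.symm a).1 (finProdFinEquiv.symm a).2))
    refine ⟨fun a => χ (coord hT le_top S a), ?_⟩
    have h1 : Ψ S = Q := funext fun i => funext fun j => by
      show χ (coord hb le_rfl (ev (secEquiv U S) le_rfl (b i)) j) = _
      have e := ev_lc_unitBasis hb b (le_refl U) (fun a => ro (le_top : U ≤ ⊤)
        (Coh.toGlobal f (Q (finProdFinEquiv.symm a).1 (finProdFinEquiv.symm a).2))) i
      rw [rs_self] at e
      rw [show ev (secEquiv U S) le_rfl (b i) = _ from e, coord_eq hb le_rfl rfl]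
      simp only [Equiv.symm_apply_apply]
      exact hχ _
    have h2 : Ψ S = ∑ a, χ (coord hT le_top S a) • Ψ (rs _ le_top (T a)) := by
      conv_lhs => rw [← lc_coord hT (le_top : U ≤ ⊤) S]
      simp only [lc, map_sum, Ψsmul]
    exact h2.symm.trans h1
  have hinj : Function.Injective Λ := by
    refine (LinearMap.injective_iff_surjective_of_finrank_eq_finrank ?_).2 hsurj
    rw [Module.finrank_fin_fun, Module.finrank_matrix, Module.finrank_self]
    simp
  let toM : (E ⟶ E) →+ Matrix (Fin r) (Fin r) k :=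
    AddMonoidHom.mk' (fun φ => Ψ (rs _ le_top (globalEquiv E E φ))) fun φ φ' => by
      rw [map_add, show ∀ s t : Γ(homMod E E, ⊤), rs _ (le_top : U ≤ ⊤) (s + t) = rs _ le_top s + rs _ le_top t from
        fun s t => map_add _ _ _, map_add]
  have hΛ : ∀ γ : Fin (r * r) → k, Ψ (rs _ (le_top : U ≤ ⊤) (lc _ T le_rfl fun a => Coh.toGlobal f (γ a))) = Λ γ := by
    intro γ
    rw [Groth.L19.ProjBdl.rs_lc T le_rfl le_top]
    simp only [lc, map_sum, Ψsmul, hχ]
    rfl
  have hbij : Function.Bijective toM := by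
    refine ⟨(injective_iff_map_eq_zero _).2 fun φ hφ => ?_, fun Q => ?_⟩
    · choose γ hγ using fun a => surjective_toGlobal f (coord hT le_rfl (globalEquiv E E φ) a)
      have hs : globalEquiv E E φ = lc _ T le_rfl fun a => Coh.toGlobal f (γ a) := by
        rw [funext hγ]; exact (lc_coord hT le_rfl _).symm
      have h0 : γ = 0 := hinj (by
        rw [map_zero, ← hΛ, ← hs]
        exact hφ)
      refine (globalEquiv E E).injective ?_
      rw [hs, h0, map_zero]
      simp [lc]
    · obtain ⟨γ, rfl⟩ := hsurj Q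
      refine ⟨(globalEquiv E E).symm (lc _ T le_rfl fun a => Coh.toGlobal f (γ a)), ?_⟩
      show Ψ (rs _ le_top (globalEquiv E E _)) = _
      rw [AddEquiv.apply_symm_apply, hΛ]
  have happ : ∀ (φ : E ⟶ E) i, ev (secEquiv U (rs _ (le_top : U ≤ ⊤) (globalEquiv E E φ))) le_rfl (b i) = φ.app U (b i) :=
    fun φ i => by
      rw [secEquiv_rs]
      rfl
  refine ⟨AddEquiv.ofBijective toM hbij, funext fun i => funext fun j => ?_, fun φ φ' => funext fun i => funext fun j => ?_⟩
  · show χ (coord hb le_rfl (ev (secEquiv U (rs _ le_top (globalEquiv E E (𝟙 E)))) le_rfl (b i)) j) = _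
    rw [happ]
    show χ (coord hb le_rfl (b i) j) = _
    conv_lhs => rw [← rs_self E le_rfl (b i), Groth.L16.HomSh.coord_basis hb le_rfl i]
    simp only [Pi.single_apply, apply_ite χ, map_one, map_zero, Matrix.one_apply]
    exact if_congr eq_comm rfl rfl
  · rw [Matrix.mul_apply]
    show χ (coord hb le_rfl (ev (secEquiv U (rs _ le_top (globalEquiv E E (φ ≫ φ')))) le_rfl (b i)) j) =
      ∑ l, χ (coord hb le_rfl (ev (secEquiv U (rs _ le_top (globalEquiv E E φ))) le_rfl (b i)) l) *
        χ (coord hb le_rfl (ev (secEquiv U (rs _ le_top (globalEquiv E E φ'))) le_rfl (b l)) j)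
    simp only [happ]
    show χ (coord hb le_rfl (φ'.app U (φ.app U (b i))) j) = _
    conv_lhs => rw [← lc_coord hb le_rfl (φ.app U (b i)), app_lc]
    have hsum : ∀ (c : Fin r → Γ(X, U)) (v : Fin r → Γ(E, U)), K (lc E v le_rfl c) = ∑ l, χ (c l) • K (v l) := by
      intro c v
      have := map_sum (AddMonoidHom.mk' K Kadd) (fun l => c l • rs E (le_refl U) (v l)) Finset.univ
      refine this.trans (Finset.sum_congr rfl fun l _ => ?_)
      show K (c l • rs E le_rfl (v l)) = _
      rw [rs_self, Ksmul]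
    refine (congrFun (hsum _ _) j).trans ?_
    simp [K, Finset.sum_apply]

/-- Rank of a sum of copies. -/
theorem isFinLocFreeOfRank_copies {L : X.Modules} {q : ℕ} (hL : FlatMod.IsFinLocFreeOfRank q L) (r : ℕ) :
    FlatMod.IsFinLocFreeOfRank (r * q) (∐ fun _ : Fin r => L) := fun x => by
  obtain ⟨U, hx, ⟨e1⟩⟩ := hL x
  exact ⟨U, hx, ⟨PreservesCoproduct.iso (Scheme.Modules.restrictFunctor U.ι) _ ≪≫ Sigma.mapIso (fun _ => e1) ≪≫
    sigmaSigmaIso (fun _ : Fin r => Fin q) (fun _ _ => Coh.structureModule (↑U : Scheme.{u})) ≪≫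
    Sigma.reindex ((Equiv.sigmaEquivProd (Fin r) (Fin q)).trans finProdFinEquiv) fun _ => Coh.structureModule (↑U : Scheme.{u})⟩⟩

/-- A bundle with free sheaf of endomorphisms is a sum of copies of one line bundle. -/
theorem exists_lineBundle [IsIntegral X] (f : X ⟶ Spec (CommRingCat.of k)) [IsProper f] {r : ℕ} (hr : 0 < r)
    {E : X.Modules} (hE : FlatMod.IsFinLocFreeOfRank r E) (ψ : homMod E E ≅ FlatMod.freeMod X (r * r)) :
    ∃ L : X.Modules, PicF.IsInvertible L ∧ Nonempty (E ≅ ∐ fun _ : Fin r => L) := by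
  classical
  haveI : IsLocallyNoetherian X := LocallyOfFiniteType.isLocallyNoetherian f
  obtain ⟨M, hone, hmul⟩ := exists_ringEquiv f hE ψ
  let e : Fin r → Fin r → (E ⟶ E) := fun i j => M.symm (Matrix.single i j 1)
  obtain ⟨L, hret, ⟨i⟩⟩ := exists_retract_of_matrixUnits (⟨0, hr⟩ : Fin r) e (fun a b c d => M.injective (by
      rw [hmul, apply_ite M, map_zero]
      simp only [e, AddEquiv.apply_symm_apply]
      by_cases hbc : b = c
      · subst hbc; simp
      · rw [Matrix.single_mul_single_of_ne (c := (1 : k)) (i := a) (h := hbc), if_neg hbc]))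
    (M.injective (by
      rw [map_sum, hone]
      simp only [e, AddEquiv.apply_symm_apply]
      exact Matrix.sum_single_one))
  obtain ⟨q, hq⟩ := Groth.L18.KRRAmple.exists_rank
    (Groth.L24.KrullSchmidt.isFinLocFree_retract (Groth.L22.CurveDeg.isFinLocFree_of_rank hE) hret)
  have hrq : r * q = r := Groth.L12.KDetLine.rank_unique' (isFinLocFreeOfRank_copies hq r)
    (fun x => let ⟨U, hx, ⟨e'⟩⟩ := hE x; ⟨U, hx, ⟨(Scheme.Modules.restrictFunctor U.ι).mapIso i.symm ≪≫ e'⟩⟩)
  obtain rfl : q = 1 := by simpa using Nat.eq_of_mul_eq_mul_left hr (hrq.trans (mul_one r).symm)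
  exact ⟨L, Groth.L03.ShStab.ExtTwistPn.isInvertible_of_rank_one hq, ⟨i⟩⟩

end Groth.L03.VBPn.Isotyp
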