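import Groth.Agent.L03.VBPn.Jump.Split
import Groth.Agent.L21.P1.DoubleCoverApply
import Groth.Agent.L12.FinCov.Basis

/-!
# Semistable bundles on the projective line
-/

set_option autoImplicit false
set_option linter.style.haveILetI false
set_option backward.isDefEq.respectTransparency false
set_option backward.isDefEq.respectTransparency.types false

universe u

open CategoryTheory CategoryTheory.Limits AlgebraicGeometry
open Groth.L03.VBPn.Jump (sumL OL euler_sumL euler_OL)

noncomputable section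

namespace Groth.L03.VBPn.Isotyp

variable {k : Type u} [Field k] [IsAlgClosed k]

/-- A semistable bundle on the line is a sum of copies of one twist. -/
theorem exists_iso_sum_of_semistable {r : ℕ} {E : (CohB1.ProjSpace 1 k).Modules}
    (hE : FlatMod.IsFinLocFreeOfRank r E)
    (hss : ModFun.IsSlopeSemistable k (CohB1.ProjSpace 1 k) E r) :
    ∃ L : (CohB1.ProjSpace 1 k).Modules, PicF.IsInvertible L ∧ Nonempty (E ≅ ∐ fun _ : Fin r => L) := by
  classical
  haveI := Groth.L22.Reg.isProper_over_proj (k := k) (n := 1)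
  haveI := Groth.L21.RR.isNoetherian_of_proper (X := CohB1.ProjSpace 1 k) k
  obtain ⟨d, hd, ⟨e⟩⟩ := Groth.L21.P1.exists_splitting k hE
  have hle : ∀ l, d l * (r : ℤ) ≤ ∑ i, d i := by
    intro l
    have hO : Curv2.euler k (CohB1.ProjSpace 1 k) (Coh.structureModule (CohB1.ProjSpace 1 k)) = 1 :=
      Groth.L21.P1.euler_structure k
    have h := hss (OL k (d l)) 1 (biproduct.ι (fun l => OL k (d l)) l ≫ e.hom) inferInstance one_pos
      (Groth.L12.FinCov.isFinLocFreeOfRank_one_of_isInvertible
        (Groth.L16.ProjTwist.isInvertible_twistProjSpace 1 k (d l)))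
    have hsum : Curv2.euler k (CohB1.ProjSpace 1 k) E = ∑ i, (d i + 1) :=
      (Groth.L21.RR.euler_congr k e.symm).trans (euler_sumL d)
    rw [Curv2.deg, Curv2.deg, hO, euler_OL, hsum, Finset.sum_add_distrib, Finset.sum_const, Finset.card_univ,
      Fintype.card_fin] at h
    simpa using h
  rcases Nat.eq_zero_or_pos r with rfl | hr
  · exact ⟨_, Groth.L18.Ample.isInvertible_structureModule _,
      ⟨e.symm ≪≫ (IsLimit.conePointUniqueUpToIso (biproduct.isLimit _) (biproduct.isLimit _)) ≪≫
        (biproduct.mapIso fun l : Fin 0 => l.elim0) ≪≫ biproduct.isoCoproduct _⟩⟩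
  have heq : ∀ l, d l = d ⟨0, hr⟩ := by
    intro l
    have h0 : ∀ i, d i ≤ d ⟨0, hr⟩ := fun i => hd (Fin.mk_le_of_le_val (Nat.zero_le _))
    have hall : ∀ i ∈ Finset.univ, d ⟨0, hr⟩ - d i = 0 := by
      refine (Finset.sum_eq_zero_iff_of_nonneg fun i _ => sub_nonneg.2 (h0 i)).1 ?_
      refine le_antisymm ?_ (Finset.sum_nonneg fun i _ => sub_nonneg.2 (h0 i))
      rw [Finset.sum_sub_distrib, Finset.sum_const, Finset.card_univ, Fintype.card_fin, nsmul_eq_mul, mul_comm]
      exact sub_nonpos.2 (hle ⟨0, hr⟩)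
    have := hall l (Finset.mem_univ l)
    omega
  exact ⟨OL k (d ⟨0, hr⟩), Groth.L16.ProjTwist.isInvertible_twistProjSpace 1 k _,
    ⟨e.symm ≪≫ biproduct.isoCoproduct _ ≪≫ Sigma.mapIso fun l => eqToIso (congrArg (OL k) (heq l))⟩⟩

end Groth.L03.VBPn.Isotyp
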